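/-
Carmichael's presentation of the alternating groups on a star of three-cycles, and the three-cycles themselves.
-/
import Mathlib

set_option autoImplicit false

namespace CfsgLib.ShortPres

section Bound

variable {G : Type*} [Group G]

/-- A finite set containing the identity and stable under left multiplication by generators of finite order
contains the subgroup they generate. -/
theorem closure_subset_of_mul_stable {T : Set G} {S : Set G} (h1 : (1 : G) ∈ S)
    (hT : ∀ t ∈ T, ∀ g ∈ S, t * g ∈ S) (hinv : ∀ t ∈ T, ∀ g ∈ S, t⁻¹ * g ∈ S) :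
    (Subgroup.closure T : Set G) ⊆ S := by
  intro x hx
  rw [SetLike.mem_coe] at hx
  refine Subgroup.closure_induction_left (p := fun x _ => x ∈ S) h1 (fun t ht y _ hy => hT t ht y hy)
    (fun t ht y _ hy => hinv t ht y hy) hx

/-- Carmichael: `m` elements of order three with pairwise products involutions generate at most
`(m + 2)!/2` elements. -/
theorem carmichael_bound : ∀ (m : ℕ) {x : Fin m → G}, (∀ i, x i ^ 3 = 1) →
    (∀ i j, i ≠ j → (x i * x j) ^ 2 = 1) →
    (Subgroup.closure (Set.range x) : Set G).Finite ∧
      2 * (Subgroup.closure (Set.range x) : Set G).ncard ≤ (m + 2).factorial := by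
  intro m
  induction m with
  | zero =>
    intro x _ _
    have : Set.range x = ∅ := Set.range_eq_empty x
    rw [this, Subgroup.closure_empty, Subgroup.coe_bot]
    exact ⟨Set.finite_singleton 1, by simp⟩
  | succ m ih =>
    intro x h3 h2
    obtain ⟨hfin, hcard⟩ := ih (x := fun i => x i.castSucc) (fun i => h3 _)
      (fun i j hij => h2 _ _ (fun h => hij (Fin.castSucc_injective _ h)))
    set H := Subgroup.closure (Set.range fun i : Fin m => x i.castSucc) with hH
    set M := x (Fin.last m) with hM
    have hM3 : M * (M * M) = 1 := by rw [← h3 (Fin.last m)]; simp [hM, pow_succ, mul_assoc]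
    have hi3 : ∀ i, x i * (x i * x i) = 1 := fun i => by rw [← h3 i]; simp [pow_succ, mul_assoc]
    have hrel : ∀ i j, i ≠ j → x i * x j * x i = (x j)⁻¹ := fun i j hij => by
      apply eq_inv_of_mul_eq_one_left
      rw [← h2 i j hij, pow_two, mul_assoc (x i * x j)]
    have hsq : ∀ i, (x i)⁻¹ = x i * x i := fun i => inv_eq_of_mul_eq_one_right (hi3 i)
    have hxH : ∀ i : Fin m, x i.castSucc ∈ H := fun i => Subgroup.subset_closure ⟨i, rfl⟩
    let P : Option (Option (Option (Fin m))) → G := fun o => match o with
      | none => 1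
      | some none => M
      | some (some none) => M⁻¹
      | some (some (some i)) => (x i.castSucc)⁻¹ * M
    let S : Set G := ⋃ o, (fun h => P o * h) '' (H : Set G)
    have hmem : ∀ o g h, h ∈ H → g = P o * h → g ∈ S := fun o g h hh hg =>
      Set.mem_iUnion.mpr ⟨o, h, hh, hg.symm⟩
    have hstab : ∀ t, ∀ g ∈ S, x t * g ∈ S := by
      intro t g hg
      obtain ⟨o, h, hh, rfl⟩ := Set.mem_iUnion.mp hg
      rcases Fin.eq_castSucc_or_eq_last t with ⟨k, rfl⟩ | rfl
      · have hkM : x k.castSucc * M * x k.castSucc = M⁻¹ := hrel _ _ (Fin.castSucc_lt_last k).ne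
        rcases o with _ | _ | _ | i
        · exact hmem none _ (x k.castSucc * h) (mul_mem (hxH k) hh) (by simp [P])
        · refine hmem (some (some none)) _ ((x k.castSucc)⁻¹ * h) (mul_mem (inv_mem (hxH k)) hh) ?_
          simp only [P]
          rw [← hkM]
          group
        · refine hmem (some (some (some k))) _ (x k.castSucc * h) (mul_mem (hxH k) hh) ?_
          simp only [P]
          rw [hsq k.castSucc, ← hkM]
          group
        · simp only [P]
          by_cases hik : i = k
          · subst hik
            exact hmem (some none) _ h hh (by simp only [P]; group)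
          · have hne : k.castSucc ≠ i.castSucc := fun h => hik (Fin.castSucc_injective _ h).symm
            have hiM : x i.castSucc * M * x i.castSucc = M⁻¹ := hrel _ _ (Fin.castSucc_lt_last i).ne
            refine hmem (some (some (some i))) _ (x k.castSucc * (x i.castSucc)⁻¹ * h)
              (mul_mem (mul_mem (hxH k) (inv_mem (hxH i))) hh) ?_
            simp only [P]
            have e1 : x k.castSucc * (x i.castSucc)⁻¹ =
                (x i.castSucc)⁻¹ * (x k.castSucc)⁻¹ * x i.castSucc := by
              nth_rewrite 2 [← hrel _ _ hne]; rw [hsq i.castSucc]; group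
            have e2 : x i.castSucc * M = M⁻¹ * (x i.castSucc)⁻¹ := by
              rw [← hiM]; group
            have e3 : (x k.castSucc)⁻¹ * M⁻¹ = M * x k.castSucc := by
              rw [← hkM]; group
            calc x k.castSucc * ((x i.castSucc)⁻¹ * M * h)
                = (x k.castSucc * (x i.castSucc)⁻¹) * M * h := by group
              _ = (x i.castSucc)⁻¹ * (x k.castSucc)⁻¹ * (x i.castSucc * M) * h := by rw [e1]; group
              _ = (x i.castSucc)⁻¹ * ((x k.castSucc)⁻¹ * M⁻¹) * (x i.castSucc)⁻¹ * h := by rw [e2]; group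
              _ = (x i.castSucc)⁻¹ * M * (x k.castSucc * (x i.castSucc)⁻¹ * h) := by rw [e3]; group
      · show M * _ ∈ S
        rcases o with _ | _ | _ | i
        · exact hmem (some none) _ h hh (by simp [P])
        · refine hmem (some (some none)) _ h hh ?_
          simp only [P]
          rw [show M⁻¹ = M * M from hsq (Fin.last m)]
          group
        · exact hmem none _ h hh (by simp [P])
        · simp only [P]
          have hiM : x i.castSucc * M * x i.castSucc = M⁻¹ := hrel _ _ (Fin.castSucc_lt_last i).ne
          have hMi : M * x i.castSucc * M = (x i.castSucc)⁻¹ := hrel _ _ (Fin.castSucc_lt_last i).ne'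
          refine hmem (some (some (some i))) _ ((x i.castSucc)⁻¹ * h) (mul_mem (inv_mem (hxH i)) hh) ?_
          simp only [P]
          calc M * ((x i.castSucc)⁻¹ * M * h) = M * (M * x i.castSucc * M) * M * h := by rw [hMi]; group
            _ = (M * M) * x i.castSucc * (M * M) * h := by group
            _ = M⁻¹ * x i.castSucc * M⁻¹ * h := by rw [show M⁻¹ = M * M from hsq (Fin.last m)]
            _ = (x i.castSucc * M * x i.castSucc) * x i.castSucc *
                (x i.castSucc * M * x i.castSucc) * h := by rw [hiM]
            _ = x i.castSucc * M * (x i.castSucc * (x i.castSucc * x i.castSucc)) * M *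
                x i.castSucc * h := by group
            _ = x i.castSucc * (M * M) * x i.castSucc * h := by rw [hi3]; group
            _ = x i.castSucc * M⁻¹ * x i.castSucc * h := by rw [show M⁻¹ = M * M from hsq (Fin.last m)]
            _ = (x i.castSucc * x i.castSucc) * M * (x i.castSucc * x i.castSucc) * h := by
              rw [← hiM]; group
            _ = (x i.castSucc)⁻¹ * M * ((x i.castSucc)⁻¹ * h) := by rw [hsq]; group
    have hSfin : S.Finite := Set.finite_iUnion fun o => hfin.image _
    have hsub : (Subgroup.closure (Set.range x) : Set G) ⊆ S := by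
      refine closure_subset_of_mul_stable (hmem none _ 1 (one_mem _) (by simp [P])) ?_ ?_
      · rintro _ ⟨t, rfl⟩ g hg
        exact hstab t g hg
      · rintro _ ⟨t, rfl⟩ g hg
        rw [hsq t, mul_assoc]
        exact hstab t _ (hstab t g hg)
    refine ⟨hSfin.subset hsub, ?_⟩
    have h4 : S.ncard ≤ (m + 3) * (H : Set G).ncard := by
      refine (Set.ncard_iUnion_le_of_fintype _).trans ?_
      refine (Finset.sum_le_sum fun o _ => Set.ncard_image_le hfin).trans (le_of_eq ?_)
      rw [Finset.sum_const, smul_eq_mul]
      simp [Fintype.card_option]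
    have h5 := Set.ncard_le_ncard hsub hSfin
    rw [show m + 1 + 2 = (m + 2) + 1 by omega, Nat.factorial_succ]
    nlinarith [Nat.mul_le_mul_left (m + 2 + 1) hcard]

theorem carmichael {ι : Type*} [Fintype ι] {x : ι → G} (h3 : ∀ i, x i ^ 3 = 1)
    (h2 : ∀ i j, i ≠ j → (x i * x j) ^ 2 = 1) :
    Finite ↥(Subgroup.closure (Set.range x)) ∧
      2 * Nat.card ↥(Subgroup.closure (Set.range x)) ≤ (Fintype.card ι + 2).factorial := by
  have hr : Set.range x = Set.range (x ∘ (Fintype.equivFin ι).symm) :=
    ((Equiv.surjective _).range_comp _).symm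
  obtain ⟨h, h'⟩ := carmichael_bound (Fintype.card ι) (x := x ∘ (Fintype.equivFin ι).symm)
    (fun i => h3 _) (fun i j hij => h2 _ _ (fun e => hij ((Fintype.equivFin ι).symm.injective e)))
  rw [← hr] at h h'
  exact ⟨h.to_subtype, by rw [← Nat.card_coe_set_eq] at h'; exact h'⟩

end Bound

/-! ### The permutations -/

section Star

variable {ι : Type*} [DecidableEq ι]

/-- The three-cycle on the two extra points and `i`. -/
def star (i : ι) : Equiv.Perm (Bool ⊕ ι) :=
  Equiv.swap (Sum.inl false) (Sum.inr i) * Equiv.swap (Sum.inl false) (Sum.inl true)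

/-- A permutation of `ι`, made even by the transposition of the two extra points. -/
def evenify [Fintype ι] : Equiv.Perm ι →* Equiv.Perm (Bool ⊕ ι) :=
  (Equiv.Perm.sumCongrHom Bool ι).comp
    (((MonoidHom.mk' (fun u : ℤˣ => if u = 1 then (1 : Equiv.Perm Bool) else Equiv.swap false true)
        (by decide)).comp Equiv.Perm.sign).prod (MonoidHom.id _))

theorem star_apply_false (i : ι) : star i (Sum.inl false) = Sum.inl true := by
  simp [star, Equiv.swap_apply_of_ne_of_ne]

theorem conj_star {π : Equiv.Perm (Bool ⊕ ι)} (h0 : π (Sum.inl false) = Sum.inl false)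
    (h1 : π (Sum.inl true) = Sum.inl true) {i j : ι} (hij : π (Sum.inr i) = Sum.inr j) :
    π * star i * π⁻¹ = star j := by
  simp only [star]
  rw [show π * (Equiv.swap (Sum.inl false) (Sum.inr i) * Equiv.swap (Sum.inl false) (Sum.inl true)) * π⁻¹
    = (π * Equiv.swap (Sum.inl false) (Sum.inr i) * π⁻¹) *
      (π * Equiv.swap (Sum.inl false) (Sum.inl true) * π⁻¹) by group,
    ← Equiv.swap_apply_apply, ← Equiv.swap_apply_apply, h0, h1, hij]

theorem conj_star_swap (i : ι) :
    Equiv.swap (Sum.inl false) (Sum.inl true) * star i * Equiv.swap (Sum.inl false) (Sum.inl true) =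
      (star i)⁻¹ := by
  simp [star, mul_assoc]

theorem star_apply_true (i : ι) : star i (Sum.inl true) = Sum.inr i := by
  simp [star]

theorem star_apply_self (i : ι) : star i (Sum.inr i) = Sum.inl false := by
  simp [star, Equiv.swap_apply_of_ne_of_ne]

theorem star_apply_of_ne {i j : ι} (h : j ≠ i) : star i (Sum.inr j) = Sum.inr j := by
  simp [star, Equiv.swap_apply_of_ne_of_ne, h]

theorem star_pow_three (i : ι) : star i ^ 3 = 1 := by
  ext x
  simp only [pow_succ, pow_zero, one_mul, Equiv.Perm.mul_apply, Equiv.Perm.one_apply]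
  rcases x with (_ | _) | x
  · rw [star_apply_false, star_apply_true, star_apply_self]
  · rw [star_apply_true, star_apply_self, star_apply_false]
  · by_cases h : x = i
    · subst h
      rw [star_apply_self, star_apply_false, star_apply_true]
    · simp only [star_apply_of_ne h]

theorem star_pair {i j : ι} (hij : i ≠ j) : (star i * star j) ^ 2 = 1 := by
  ext x
  simp only [pow_succ, pow_zero, one_mul, Equiv.Perm.mul_apply, Equiv.Perm.one_apply]
  rcases x with (_ | _) | x
  · simp only [star_apply_false, star_apply_true, star_apply_self, star_apply_of_ne hij,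
      star_apply_of_ne hij.symm]
  · simp only [star_apply_false, star_apply_true, star_apply_self, star_apply_of_ne hij,
      star_apply_of_ne hij.symm]
  · by_cases h : x = i
    · subst h
      simp only [star_apply_false, star_apply_true, star_apply_self, star_apply_of_ne hij,
        star_apply_of_ne hij.symm]
    · by_cases h' : x = j
      · subst h'
        simp only [star_apply_false, star_apply_true, star_apply_self, star_apply_of_ne hij,
          star_apply_of_ne hij.symm]
      · simp only [star_apply_of_ne h, star_apply_of_ne h']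

theorem sign_star [Fintype ι] (i : ι) : Equiv.Perm.sign (star i) = 1 := by
  simp [star]

theorem closure_star [Fintype ι] :
    Subgroup.closure (Set.range (star : ι → _)) = alternatingGroup (Bool ⊕ ι) := by
  set S := Subgroup.closure (Set.range (star : ι → _)) with hS
  set s₀ : Equiv.Perm (Bool ⊕ ι) := Equiv.swap (Sum.inl false) (Sum.inl true)
  have hsinv : s₀⁻¹ = s₀ := Equiv.swap_inv _ _
  have hle : S ≤ alternatingGroup (Bool ⊕ ι) := by
    rw [hS, Subgroup.closure_le]
    rintro _ ⟨i, rfl⟩
    exact sign_star i
  refine le_antisymm hle ?_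
  have hconj : ∀ y ∈ S, s₀ * y * s₀⁻¹ ∈ S := by
    intro y hy
    have : S ≤ S.comap (MulAut.conj s₀).toMonoidHom := by
      rw [hS, Subgroup.closure_le]
      rintro _ ⟨i, rfl⟩
      show s₀ * star i * s₀⁻¹ ∈ S
      rw [hsinv, conj_star_swap]
      exact inv_mem (Subgroup.subset_closure ⟨i, rfl⟩)
    exact this hy
  have hss : s₀ * s₀ = 1 := Equiv.swap_mul_self _ _
  let S' : Subgroup (Equiv.Perm (Bool ⊕ ι)) :=
    { carrier := {g | g ∈ S ∨ g * s₀ ∈ S}
      one_mem' := Or.inl (one_mem _)
      mul_mem' := by
        rintro f g (hf | hf) (hg | hg)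
        · exact Or.inl (mul_mem hf hg)
        · exact Or.inr (by rw [mul_assoc]; exact mul_mem hf hg)
        · refine Or.inr ?_
          have e : f * g * s₀ = (f * s₀) * (s₀ * g * s₀⁻¹) := by
            rw [hsinv]
            calc f * g * s₀ = f * (s₀ * s₀) * g * s₀ := by rw [hss, mul_one]
              _ = _ := by group
          rw [e]; exact mul_mem hf (hconj g hg)
        · refine Or.inl ?_
          have e : f * g = (f * s₀) * (s₀ * (g * s₀) * s₀⁻¹) := by
            rw [hsinv]
            calc f * g = f * (s₀ * s₀) * g * (s₀ * s₀) := by rw [hss, mul_one, mul_one]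
              _ = _ := by group
          rw [e]; exact mul_mem hf (hconj _ hg)
      inv_mem' := by
        rintro f (hf | hf)
        · exact Or.inl (inv_mem hf)
        · refine Or.inr ?_
          have e : f⁻¹ * s₀ = s₀ * (f * s₀)⁻¹ * s₀⁻¹⁻¹ := by
            rw [inv_inv, mul_inv_rev, ← mul_assoc s₀, mul_inv_cancel, one_mul]
          rw [e, inv_inv]
          have := hconj _ (inv_mem hf)
          rwa [hsinv] at this }
  have htop : S' = ⊤ := by
    rw [eq_top_iff, ← Equiv.Perm.closure_isSwap, Subgroup.closure_le]
    have hstar : ∀ x, Equiv.swap (Sum.inl false) x ∈ S' := by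
      rintro ((_ | _) | i)
      · rw [Equiv.swap_self]; exact one_mem S'
      · exact Or.inr (by rw [hss]; exact one_mem _)
      · exact Or.inr (Subgroup.subset_closure ⟨i, rfl⟩)
    rintro _ ⟨x, y, hxy, rfl⟩
    show Equiv.swap x y ∈ S'
    by_cases hx : Sum.inl false = x
    · rw [← hx]; exact hstar y
    by_cases hy : Sum.inl false = y
    · rw [← hy, Equiv.swap_comm]; exact hstar x
    rw [Equiv.swap_comm x y,
      ← Equiv.swap_mul_swap_mul_swap (x := x) (y := Sum.inl false) (z := y) (Ne.symm hx) hxy]
    exact mul_mem (mul_mem (hstar y) (by rw [Equiv.swap_comm]; exact hstar x)) (hstar y)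
  intro g hg
  rcases (show g ∈ S' from htop ▸ Subgroup.mem_top g) with h | h
  · exact h
  · exfalso
    have h1 : Equiv.Perm.sign (g * s₀) = 1 := hle h
    rw [map_mul, show Equiv.Perm.sign g = 1 from hg, Equiv.Perm.sign_swap (by simp)] at h1
    exact absurd h1 (by decide)

variable [Fintype ι]

theorem evenify_apply_inr (μ : Equiv.Perm ι) (i : ι) : evenify μ (Sum.inr i) = Sum.inr (μ i) := rfl

theorem sign_evenify (μ : Equiv.Perm ι) : Equiv.Perm.sign (evenify μ) = 1 := by
  rcases Int.units_eq_one_or (Equiv.Perm.sign μ) with h | h <;>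
    simp [evenify, h, Equiv.Perm.sign_sumCongr]

theorem evenify_mem (μ : Equiv.Perm ι) : evenify μ ∈ Subgroup.closure (Set.range (star : ι → _)) := by
  rw [closure_star]
  exact sign_evenify μ

theorem conj_evenify (μ : Equiv.Perm ι) (i : ι) :
    evenify μ * star i * (evenify μ)⁻¹ = star (μ i) ^ ((Equiv.Perm.sign μ : ℤˣ) : ℤ) := by
  rcases Int.units_eq_one_or (Equiv.Perm.sign μ) with h | h
  · rw [h, Units.val_one, zpow_one]
    exact conj_star (by simp [evenify, h]) (by simp [evenify, h]) rfl
  · rw [h, Units.val_neg, Units.val_one, zpow_neg_one]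
    have key : Equiv.swap (Sum.inl false) (Sum.inl true) * evenify μ * star i *
        (Equiv.swap (Sum.inl false) (Sum.inl true) * evenify μ)⁻¹ = star (μ i) := by
      apply conj_star <;> simp [evenify, h, Equiv.swap_apply_of_ne_of_ne]
    rw [← conj_star_swap, ← key, mul_inv_rev, Equiv.swap_inv]
    have hss : Equiv.swap (Sum.inl false : Bool ⊕ ι) (Sum.inl true) *
      Equiv.swap (Sum.inl false) (Sum.inl true) = 1 := Equiv.swap_mul_self _ _
    calc evenify μ * star i * (evenify μ)⁻¹
        = 1 * (evenify μ * star i * (evenify μ)⁻¹) * 1 := by group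
      _ = _ := by rw [← hss]; group

end Star

end CfsgLib.ShortPres
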