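/-
The permutations satisfying the short presentations of symmetric and alternating groups.
-/
import Cfsg.Agent.Lib.ShortPres.Carmichael

set_option autoImplicit false

namespace CfsgLib.ShortPres

open Equiv

section Cyc

variable {α : Type*} [DecidableEq α]

/-- A cycle on the elements of `s`. -/
noncomputable def cyc (s : Finset α) : Perm α := s.toList.formPerm

theorem cyc_of_notMem {s : Finset α} {t : α} (h : t ∉ s) : cyc s t = t :=
  List.formPerm_apply_of_notMem (by simpa using h)

theorem cyc_induction {s : Finset α} {P : α → Prop} {t : α} (ht : t ∈ s) (h0 : P t)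
    (hs : ∀ v ∈ s, P v → P (cyc s v)) : ∀ u ∈ s, P u := by
  intro u hu
  obtain ⟨i, hi, rfl⟩ := List.getElem_of_mem (Finset.mem_toList.mpr ht)
  obtain ⟨j, hj, rfl⟩ := List.getElem_of_mem (Finset.mem_toList.mpr hu)
  have key : ∀ n, s.toList[(i + n) % s.toList.length]'(Nat.mod_lt _ (by omega)) ∈ s ∧
      P (s.toList[(i + n) % s.toList.length]'(Nat.mod_lt _ (by omega))) := by
    intro n
    refine ⟨Finset.mem_toList.mp (List.getElem_mem _), ?_⟩
    induction n with
    | zero => simpa only [Nat.add_zero, Nat.mod_eq_of_lt hi] using h0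
    | succ n ih =>
      have h1 := List.formPerm_pow_apply_getElem s.toList s.nodup_toList n i hi
      have h2 := List.formPerm_pow_apply_getElem s.toList s.nodup_toList (n + 1) i hi
      rw [pow_succ', Perm.mul_apply, h1] at h2
      rw [← h2]
      exact hs _ (Finset.mem_toList.mp (List.getElem_mem _)) ih
  have := (key (j + s.toList.length - i)).2
  have e : (i + (j + s.toList.length - i)) % s.toList.length = j := by
    rw [show i + (j + s.toList.length - i) = j + s.toList.length by omega, Nat.add_mod_right,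
      Nat.mod_eq_of_lt hj]
  simpa only [e] using this

end Cyc

section Lift

variable {ι : Type*} [DecidableEq ι] [Fintype ι]

/-- A permutation of `ι` fixing the two extra points. -/
def liftI : Perm ι →* Perm (Bool ⊕ ι) :=
  (Perm.sumCongrHom Bool ι).comp (MonoidHom.inr _ _)

theorem sign_liftI (μ : Perm ι) : Perm.sign (liftI μ) = Perm.sign μ := by
  simp [liftI, Equiv.Perm.sign_sumCongr]

theorem liftI_conj_star (μ : Perm ι) (i : ι) : liftI μ * star i * (liftI μ)⁻¹ = star (μ i) :=
  conj_star rfl rfl rfl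

theorem liftI_conj_evenify (y μ : Perm ι) :
    liftI y * evenify μ * (liftI y)⁻¹ = evenify (y * μ * y⁻¹) := by
  have hs : Perm.sign (y * μ * y⁻¹) = Perm.sign μ := by
    rw [map_mul, map_mul, map_inv, mul_comm (Perm.sign y) (Perm.sign μ), mul_assoc, mul_inv_cancel, mul_one]
  simp only [liftI, evenify, MonoidHom.coe_comp, Function.comp_apply, MonoidHom.inr_apply,
    MonoidHom.prod_apply, MonoidHom.id_apply]
  rw [← map_inv, ← map_mul, ← map_mul]
  simp only [Prod.inv_mk, Prod.mk_mul_mk, inv_one, one_mul, mul_one, hs]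

theorem card_closure_star :
    2 * Nat.card ↥(Subgroup.closure (Set.range (star : ι → _))) = (Fintype.card ι + 2).factorial := by
  haveI : Nontrivial (Bool ⊕ ι) := Sum.inl_injective.nontrivial (α := Bool)
  rw [closure_star, Nat.card_eq_fintype_card, two_mul_card_alternatingGroup, Fintype.card_perm,
    Fintype.card_sum, Fintype.card_bool, add_comm]

end Lift

section Pt

variable {p d : ℕ}

/-- A permutation of the block `ZMod p`. -/
def liftP : Perm (ZMod p) →* Perm (ZMod p ⊕ Fin d) :=
  (Perm.sumCongrHom _ _).comp (MonoidHom.inl _ _)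

theorem liftP_inl (σ : Perm (ZMod p)) (i : ZMod p) : liftP (d := d) σ (Sum.inl i) = Sum.inl (σ i) := rfl

theorem liftP_inr (σ : Perm (ZMod p)) (j : Fin d) : liftP (d := d) σ (Sum.inr j) = Sum.inr j := rfl

variable [NeZero p]

theorem sign_liftP (σ : Perm (ZMod p)) : Perm.sign (liftP (d := d) σ) = Perm.sign σ := by
  simp [liftP, Equiv.Perm.sign_sumCongr]

variable (p d) in
/-- The alternating group of the block `ZMod p` and the two extra points. -/
def KT : Subgroup (Perm (Bool ⊕ (ZMod p ⊕ Fin d))) :=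
  Subgroup.closure (Set.range fun i : ZMod p => star (Sum.inl i : ZMod p ⊕ Fin d))

/-- The embedding of the permutations of the block. -/
def embP : Perm (Bool ⊕ ZMod p) →* Perm (Bool ⊕ (ZMod p ⊕ Fin d)) :=
  (Equiv.sumAssoc Bool (ZMod p) (Fin d)).permCongrHom.toMonoidHom.comp
    ((Perm.sumCongrHom _ _).comp (MonoidHom.inl _ _))

theorem embP_injective : Function.Injective (embP (p := p) (d := d)) := by
  intro g h e
  have := (Equiv.sumAssoc Bool (ZMod p) (Fin d)).permCongrHom.injective e
  exact (Prod.ext_iff.mp (Perm.sumCongrHom_injective this)).1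

theorem sign_embP (g : Perm (Bool ⊕ ZMod p)) : Perm.sign (embP (d := d) g) = Perm.sign g := by
  show Perm.sign ((Equiv.sumAssoc Bool (ZMod p) (Fin d)).permCongr (Equiv.sumCongr g 1)) = _
  rw [Equiv.Perm.sign_permCongr, Equiv.Perm.sign_sumCongr, map_one, mul_one]

theorem embP_star (i : ZMod p) : embP (d := d) (star i) = star (Sum.inl i) := by
  ext x
  rcases x with (_ | _) | (x | j)
  · simp [embP, star_apply_false]
  · simp [embP, star_apply_true]
  · by_cases h : x = i
    · subst h; simp [embP, star_apply_self]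
    · simp [embP, star_apply_of_ne h, star_apply_of_ne (i := Sum.inl i)
        (j := (Sum.inl x : ZMod p ⊕ Fin d)) (by simpa using h)]
  · simp [embP, star_apply_of_ne (i := Sum.inl i) (j := (Sum.inr j : ZMod p ⊕ Fin d)) (by simp)]

theorem map_embP : (alternatingGroup (Bool ⊕ ZMod p)).map (embP (d := d)) = KT p d := by
  rw [← closure_star, MonoidHom.map_closure, KT, ← Set.range_comp]
  simp only [Function.comp_def, embP_star]

theorem card_KT : 2 * Nat.card ↥(KT p d) = (p + 2).factorial := by
  rw [← map_embP, Subgroup.card_map_of_injective embP_injective, ← closure_star,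
    card_closure_star, ZMod.card]

theorem mem_KT {g : Perm (Bool ⊕ (ZMod p ⊕ Fin d))} (hs : Perm.sign g = 1)
    (hf : ∀ j, g (Sum.inr (Sum.inr j)) = Sum.inr (Sum.inr j)) : g ∈ KT p d := by
  set e := Equiv.sumAssoc Bool (ZMod p) (Fin d)
  have hfix : ∀ j, e.symm.permCongr g (Sum.inr j) = Sum.inr j := fun j => by
    simp [e, hf]
  have hmaps : Set.MapsTo (e.symm.permCongr g) (Set.range Sum.inl) (Set.range Sum.inl) := by
    rintro _ ⟨x, rfl⟩
    cases h : e.symm.permCongr g (Sum.inl x) with
    | inl z => exact ⟨z, rfl⟩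
    | inr j =>
      rw [← hfix j] at h
      cases (e.symm.permCongr g).injective h
  obtain ⟨⟨g', h'⟩, hg⟩ := Perm.mem_sumCongrHom_range_of_perm_mapsTo_inl hmaps
  have hh' : h' = 1 := by
    ext j : 1
    have := hfix j
    rw [← hg] at this
    simpa using this
  have hge : g = embP g' := by
    show g = e.permCongr (Perm.sumCongrHom _ _ (g', 1))
    rw [← hh', hg]
    ext x; simp
  subst hge
  rw [← map_embP]
  exact ⟨g', by rw [sign_embP] at hs; exact hs, rfl⟩

theorem evenify_liftP_mem (σ : Perm (ZMod p)) : evenify (liftP (d := d) σ) ∈ KT p d :=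
  mem_KT (sign_evenify _) fun _ => rfl

/-- The `p`-cycle. -/
def shift : Perm (ZMod p) := Equiv.addRight 1

theorem shift_pow_apply (k : ℕ) (t : ZMod p) : (shift ^ k) t = t + k := by
  induction k with
  | zero => simp
  | succ k ih => rw [pow_succ', Perm.mul_apply, ih]; simp [shift, add_assoc]

variable (d) in
/-- The first generator. -/
def aT : Perm (Bool ⊕ (ZMod p ⊕ Fin d)) := evenify (liftP shift)

theorem aT_pow_p : aT (p := p) d ^ p = 1 := by
  have : (shift : Perm (ZMod p)) ^ p = 1 := by ext t; simp [shift_pow_apply]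
  rw [aT, ← map_pow, ← map_pow, this, map_one, map_one]

theorem sign_shift (hp : Odd p) : Perm.sign (shift : Perm (ZMod p)) = 1 := by
  have : (shift : Perm (ZMod p)) ^ p = 1 := by ext t; simp [shift_pow_apply]
  have h := congrArg Perm.sign this
  rw [map_pow, map_one] at h
  rcases Int.units_eq_one_or (Perm.sign (shift : Perm (ZMod p))) with h' | h'
  · exact h'
  · rw [h', hp.neg_one_pow] at h; exact absurd h (by decide)

theorem aT_pow_conj (hp : Odd p) (k : ℕ) (i : ZMod p) :
    aT d ^ k * star (Sum.inl i) * (aT d ^ k)⁻¹ = star (Sum.inl (i + k) : ZMod p ⊕ Fin d) := by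
  rw [aT, ← map_pow, ← map_pow, conj_evenify, liftP_inl, shift_pow_apply, sign_liftP, map_pow,
    sign_shift hp, one_pow, Units.val_one, zpow_one]

end Pt

/-- The permutation of the last points. -/
structure Data (p d M : ℕ) where
  emb : Fin d → ZMod p
  c0 : ZMod p
  y : Perm (ZMod p ⊕ Fin d)
  emb_ne : ∀ j, emb j ≠ 0
  c0_ne : c0 ≠ 0
  c0_emb : ∀ j, emb j ≠ c0
  y_zero : y (Sum.inl 0) = Sum.inl 0
  y_emb : ∀ j, y (Sum.inl (emb j)) = Sum.inr j
  y_C : ∀ t, t ≠ 0 → (∀ j, emb j ≠ t) → ∃ t', y (Sum.inl t) = Sum.inl t'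
  y_pow : y ^ M = 1
  hM : M = 2 ∨ M = 4

namespace Data

variable {p d M : ℕ} [NeZero p] (D : Data p d M)

/-- The image of the marked point. -/
noncomputable def eps : ZMod p := Classical.choose (D.y_C D.c0 D.c0_ne D.c0_emb)

theorem y_c0 : D.y (Sum.inl D.c0) = Sum.inl D.eps :=
  Classical.choose_spec (D.y_C D.c0 D.c0_ne D.c0_emb)

theorem eps_ne : D.eps ≠ 0 := fun h => D.c0_ne
  (Sum.inl_injective (D.y.injective (by rw [D.y_c0, h, D.y_zero])))

/-- Zero and the points not exchanged. -/
def SH : Finset (ZMod p) := Finset.univ.filter fun t => ∀ j, D.emb j ≠ t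

/-- The marked point and the exchanged points. -/
def SU : Finset (ZMod p) := insert D.c0 (Finset.univ.image D.emb)

/-- All points but the image of the marked one. -/
noncomputable def SQ : Finset (ZMod p) := Finset.univ.erase D.eps

/-- The second generator. -/
def wT : Perm (Bool ⊕ (ZMod p ⊕ Fin d)) := liftI D.y * star (Sum.inl 0) ^ M

theorem commute_zT : Commute (liftI D.y) (star (Sum.inl 0)) := by
  have := liftI_conj_star D.y (Sum.inl 0)
  rw [D.y_zero, mul_inv_eq_iff_eq_mul] at this
  exact this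

theorem wT_pow (k : ℕ) : D.wT ^ k = liftI D.y ^ k * star (Sum.inl 0) ^ (M * k) := by
  rw [wT, (D.commute_zT.pow_right M).mul_pow, ← pow_mul]

theorem wT_pow_M : D.wT ^ M = star (Sum.inl 0) := by
  rw [D.wT_pow, ← map_pow, D.y_pow, map_one, one_mul,
    pow_eq_pow_mod (M * M) (star_pow_three (Sum.inl 0 : ZMod p ⊕ Fin d))]
  rcases D.hM with rfl | rfl <;> exact pow_one _

theorem wT_pow_nine : D.wT ^ 9 = liftI D.y := by
  rw [D.wT_pow, pow_eq_pow_mod 9 (show liftI D.y ^ M = 1 by rw [← map_pow, D.y_pow, map_one]),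
    pow_eq_pow_mod (M * 9) (star_pow_three (Sum.inl 0 : ZMod p ⊕ Fin d))]
  rcases D.hM with rfl | rfl <;> simp

theorem wT_pow_three_M : D.wT ^ (3 * M) = 1 := by
  rw [D.wT_pow, pow_mul', ← map_pow, D.y_pow, map_one, one_pow, one_mul, mul_left_comm, pow_mul,
    star_pow_three, one_pow]

theorem conj_hT : liftI D.y * evenify (liftP (cyc D.SH)) * (liftI D.y)⁻¹ ∈ KT p d := by
  rw [liftI_conj_evenify]
  refine mem_KT (sign_evenify _) fun j => ?_
  rw [evenify_apply_inr]
  have h1 : D.y⁻¹ (Sum.inr j) = Sum.inl (D.emb j) := by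
    rw [← D.y_emb j]; simp
  have h2 : cyc D.SH (D.emb j) = D.emb j := cyc_of_notMem (by simp [SH])
  rw [Perm.mul_apply, Perm.mul_apply, h1, liftP_inl, h2, D.y_emb]

theorem commute_uq : Commute (liftI D.y * evenify (liftP (cyc D.SU)) * (liftI D.y)⁻¹)
    (evenify (liftP (cyc D.SQ))) := by
  rw [liftI_conj_evenify]
  refine Commute.map (Perm.Disjoint.commute ?_) _
  rintro (i | j)
  · by_cases hi : i = D.eps
    · refine Or.inr ?_
      rw [liftP_inl, cyc_of_notMem (by simp [SQ, hi])]
    · refine Or.inl ?_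
      have hfix : liftP (d := d) (cyc D.SU) (D.y⁻¹ (Sum.inl i)) = D.y⁻¹ (Sum.inl i) := by
        cases h : D.y⁻¹ (Sum.inl i) with
        | inr j => rfl
        | inl t =>
          have hy : D.y (Sum.inl t) = Sum.inl i := by rw [← h]; simp
          rw [liftP_inl, cyc_of_notMem]
          simp only [SU, Finset.mem_insert, Finset.mem_image, Finset.mem_univ, true_and, not_or]
          refine ⟨fun e => hi ?_, fun ⟨j, e⟩ => ?_⟩
          · rw [e, D.y_c0] at hy; exact (Sum.inl_injective hy).symm
          · rw [← e, D.y_emb] at hy; simp at hy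
      rw [Perm.mul_apply, Perm.mul_apply, hfix]; simp
  · exact Or.inr rfl

end Data

end CfsgLib.ShortPres
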